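import Groth.Agent.Lib.ClassRes.Dual
import Mathlib.Algebra.Homology.HomotopyCategory.ShortExact
import Mathlib.Algebra.Homology.DerivedCategory.Basic
import Mathlib.Algebra.Homology.DerivedCategory.ShortExact

/-! Relative resolutions of maps of bounded above complexes by a class of objects. -/

universe v u

open CategoryTheory CategoryTheory.Limits CochainComplex CochainComplex.HomComplex

set_option autoImplicit false
set_option linter.style.haveILetI false
set_option linter.unusedSectionVars false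
set_option backward.isDefEq.respectTransparency false
set_option backward.isDefEq.respectTransparency.types false

namespace Groth.Agent.RelRes16

noncomputable section

variable {A : Type u} [Category.{v} A] [Abelian A]
variable {K H R : CochainComplex A ℤ} (φ : K ⟶ H) (p : R ⟶ mappingCone φ)

/-- The connecting component. -/
def conn (i j : ℤ) (h : i + 1 = j) : R.X i ⟶ K.X j :=
  -(p.f i ≫ (mappingCone.fst φ).1.v i j h)

theorem d_conn (i j k : ℤ) (hij : i + 1 = j) (hjk : j + 1 = k) :
    R.d i j ≫ conn φ p j k hjk = -(conn φ p i j hij ≫ K.d j k) := by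
  simp only [conn, Preadditive.comp_neg, Preadditive.neg_comp, Category.assoc]
  rw [← HomologicalComplex.Hom.comm_assoc, mappingCone.d_fst_v φ i j k hij hjk]
  simp

theorem d_snd (i j : ℤ) (h : i + 1 = j) :
    R.d i j ≫ p.f j ≫ (mappingCone.snd φ).v j j (add_zero j) =
      p.f i ≫ (mappingCone.fst φ).1.v i j h ≫ φ.f j +
        p.f i ≫ (mappingCone.snd φ).v i i (add_zero i) ≫ H.d i j := by
  rw [← HomologicalComplex.Hom.comm_assoc, mappingCone.d_snd_v φ i j h]
  simp

/-- The extension of `R` by `K` lifting `p`. -/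
def ext : CochainComplex A ℤ :=
  CochainComplex.of (fun i => K.X i ⊞ R.X i)
    (fun i => biprod.desc (K.d i (i + 1) ≫ biprod.inl)
      (conn φ p i (i + 1) rfl ≫ biprod.inl + R.d i (i + 1) ≫ biprod.inr))
    (fun i => by
      apply biprod.hom_ext'
      · simp
      · simp [reassoc_of% (d_conn φ p i (i + 1) (i + 1 + 1) rfl rfl)])

theorem ext_d (i j : ℤ) (h : i + 1 = j) : (ext φ p).d i j = biprod.desc (K.d i j ≫ biprod.inl)
    (conn φ p i j h ≫ biprod.inl + R.d i j ≫ biprod.inr) := by
  subst h
  simp [ext]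

/-- The inclusion. -/
def incl : K ⟶ ext φ p where
  f i := biprod.inl
  comm' i j h := by
    rw [ext_d φ p i j h]
    exact biprod.inl_desc _ _

/-- The projection. -/
def proj : ext φ p ⟶ R where
  f i := biprod.snd
  comm' i j h := by
    rw [ext_d φ p i j h]
    apply biprod.hom_ext' <;> simp

/-- The lift of `φ`. -/
def aug : ext φ p ⟶ H where
  f i := biprod.desc (φ.f i) (p.f i ≫ (mappingCone.snd φ).v i i (add_zero i))
  comm' i j h := by
    rw [ext_d φ p i j h]
    apply biprod.hom_ext'
    · simp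
    · simp only [biprod.inr_desc_assoc, Category.assoc, Preadditive.add_comp, biprod.inl_desc, biprod.inr_desc]
      rw [d_snd φ p i j h]
      simp [conn]

theorem incl_aug : incl φ p ≫ aug φ p = φ := by
  ext i
  exact biprod.inl_desc _ _

theorem incl_proj : incl φ p ≫ proj φ p = 0 := by
  ext i
  exact biprod.inl_snd

/-- The short exact sequence. -/
def extSC : ShortComplex (CochainComplex A ℤ) := ShortComplex.mk (incl φ p) (proj φ p) (incl_proj φ p)

theorem extSC_shortExact : (extSC φ p).ShortExact :=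
  HomologicalComplex.shortExact_of_degreewise_shortExact _ fun i =>
    (ShortComplex.Splitting.ofHasBinaryBiproduct (K.X i) (R.X i)).shortExact

/-- The comparison of cones. -/
def coneMap : mappingCone (incl φ p) ⟶ mappingCone φ :=
  mappingCone.map (incl φ p) φ (𝟙 K) (aug φ p) (by simp [incl_aug])

/-- The section of the cone over `R`. -/
def coneSec : R ⟶ mappingCone (incl φ p) where
  f i := p.f i ≫ (mappingCone.fst φ).1.v i (i + 1) rfl ≫ (mappingCone.inl (incl φ p)).v (i + 1) i (by lia) +
    biprod.inr ≫ (mappingCone.inr (incl φ p)).f i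
  comm' i j h := by
    obtain rfl : i + 1 = j := h
    apply mappingCone.ext_to (incl φ p) (i + 1) (i + 1 + 1) rfl
    · simp [mappingCone.d_fst_v (incl φ p) i (i + 1) (i + 1 + 1) rfl rfl]
      rw [← HomologicalComplex.Hom.comm_assoc, mappingCone.d_fst_v φ i (i + 1) (i + 1 + 1) rfl rfl]
      simp
    · simp only [Category.assoc, Preadditive.add_comp, mappingCone.d_snd_v (incl φ p) i (i + 1) rfl,
        Preadditive.comp_add, mappingCone.inl_v_snd_v_assoc, mappingCone.inl_v_fst_v_assoc,
        mappingCone.inr_f_fst_v_assoc, mappingCone.inr_f_snd_v_assoc, zero_comp, comp_zero, add_zero, zero_add]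
      simp [incl, ext_d φ p i (i + 1) rfl, conn]
      erw [Category.comp_id]

theorem coneSec_desc : coneSec φ p ≫ mappingCone.descShortComplex (extSC φ p) = 𝟙 R := by
  ext i
  simp [coneSec, mappingCone.descShortComplex, extSC, proj, mappingCone.inl_v_desc_f, mappingCone.inr_f_desc_f]

theorem coneSec_coneMap : coneSec φ p ≫ coneMap φ p = p := by
  ext i
  apply mappingCone.ext_to φ i (i + 1) rfl <;>
    simp [coneSec, coneMap, mappingCone.map, aug, mappingCone.inl_v_desc_f, mappingCone.inr_f_desc_f]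

theorem quasiIso_aug [QuasiIso p] : QuasiIso (aug φ p) := by
  letI := HasDerivedCategory.standard A
  haveI := mappingCone.quasiIso_descShortComplex (extSC_shortExact φ p)
  haveI : QuasiIso (coneSec φ p ≫ mappingCone.descShortComplex (extSC φ p)) := by
    rw [coneSec_desc]; infer_instance
  haveI : QuasiIso (coneSec φ p) := quasiIso_of_comp_right (coneSec φ p) (mappingCone.descShortComplex (extSC φ p))
  haveI : QuasiIso (coneSec φ p ≫ coneMap φ p) := by
    rw [coneSec_coneMap]; infer_instance
  haveI : QuasiIso (coneMap φ p) := quasiIso_of_comp_left (coneSec φ p) (coneMap φ p)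
  rw [← DerivedCategory.isIso_Q_map_iff_quasiIso]
  refine Pretriangulated.isIso₂_of_isIso₁₃
    (DerivedCategory.Q.mapTriangle.map (mappingCone.triangleMap (incl φ p) φ (𝟙 K) (aug φ p) (by simp [incl_aug])))
    (DerivedCategory.mappingCone_triangle_distinguished _) (DerivedCategory.mappingCone_triangle_distinguished _)
    ?_ ?_
  · change IsIso (DerivedCategory.Q.map (𝟙 K))
    infer_instance
  · change IsIso (DerivedCategory.Q.map (coneMap φ p))
    infer_instance

theorem epi_aug (i : ℤ) [Epi (p.f i)] : Epi ((aug φ p).f i) := by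
  have : Epi ((mappingCone.snd φ).v i i (add_zero i)) :=
    (SplitEpi.mk ((mappingCone.inr φ).f i) (mappingCone.inr_f_snd_v φ i)).epi
  have h : Epi (biprod.inr ≫ (aug φ p).f i) := by
    rw [show biprod.inr ≫ (aug φ p).f i = p.f i ≫ (mappingCone.snd φ).v i i (add_zero i) from biprod.inr_desc _ _]
    infer_instance
  exact @epi_of_epi _ _ _ _ _ (biprod.inr : R.X i ⟶ _) ((aug φ p).f i) h

variable {P : A → Prop}

/-- Relative resolution. -/
theorem exists_rel_resolution (hP0 : ∀ Z : A, IsZero Z → P Z) (hPiso : ∀ {X Y : A}, (X ≅ Y) → P X → P Y)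
    (hPsum : ∀ {X Y : A}, P X → P Y → P (X ⊞ Y)) (hP : ∀ X : A, ∃ (Y : A) (π : Y ⟶ X), P Y ∧ Epi π)
    {K H : CochainComplex A ℤ} (φ : K ⟶ H) (b : ℤ) [K.IsStrictlyLE b] [H.IsStrictlyLE b]
    (hK : ∀ i, P (K.X i)) :
    ∃ (K' : CochainComplex A ℤ) (ι : K ⟶ K') (π : K' ⟶ H), ι ≫ π = φ ∧ QuasiIso π ∧ (∀ i, Epi (π.f i)) ∧
      K'.IsStrictlyLE b ∧ (∀ i, P (K'.X i)) ∧
      ∀ i, ∃ r : K'.X i ⟶ K.X i, ι.f i ≫ r = 𝟙 _ ∧ P (cokernel (ι.f i)) := by
  haveI : (mappingCone φ).IsStrictlyLE b := (CochainComplex.isStrictlyLE_iff _ _).2 fun i hi => by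
    rw [IsZero.iff_id_eq_zero]
    apply mappingCone.ext_to φ i (i + 1) rfl
    · exact (K.isZero_of_isStrictlyLE b (i + 1) (by lia)).eq_of_tgt _ _
    · exact (H.isZero_of_isStrictlyLE b i hi).eq_of_tgt _ _
  obtain ⟨R, p, hR, hPR, hpe, hpq⟩ :=
    ClassRes.exists_leftResolution_epi ⟨_, isZero_zero A, hP0 _ (isZero_zero A)⟩ hP (mappingCone φ) b
  refine ⟨ext φ p, incl φ p, aug φ p, incl_aug φ p, quasiIso_aug φ p, fun i => haveI := hpe i; epi_aug φ p i,
    (CochainComplex.isStrictlyLE_iff _ _).2 fun i hi => ?_, fun i => hPsum (hK i) (hPR i),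
    fun i => ⟨biprod.fst, biprod.inl_fst, ?_⟩⟩
  · change IsZero (K.X i ⊞ R.X i)
    rw [IsZero.iff_id_eq_zero]
    apply biprod.hom_ext
    · exact (K.isZero_of_isStrictlyLE b i hi).eq_of_tgt _ _
    · exact (R.isZero_of_isStrictlyLE b i hi).eq_of_tgt _ _
  · exact hPiso cokernelBiprodInlIso.symm (hPR i)

end

end Groth.Agent.RelRes16
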